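import Groth.Agent.H95.ProjQuot.Tilde
import Groth.Agent.S0846
import Groth.Agent.Lib.ProjTilde.FiniteType

/-!
# Coherent modules on `Proj` of a Noetherian graded ring come from finite graded modules
-/

noncomputable section

universe u

open CategoryTheory CategoryTheory.Limits AlgebraicGeometry TopologicalSpace Opposite

namespace Groth.Agent.H95.ProjQuot.EssSurj

open Groth.Agent.Lib Groth.Agent.Lib.TensorMod.Basic Groth.Agent.Lib.ProjTilde.Basic

variable {R A : Type u} [CommRing R] [CommRing A] [Algebra R A]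

/-- Coherent modules are quotients of powers of one negative twist. -/
theorem exists_epi_twist (𝒜 : ℕ → Submodule R A) [GradedAlgebra 𝒜] [IsNoetherianRing A] (F : (Proj 𝒜).Modules)
    (hF : Coh.IsCoh F) : ∃ (k c : ℕ) (φ : (∐ fun _ : Fin k => Twist.twist 𝒜 (-(c : ℤ))) ⟶ F), Epi φ := by
  obtain ⟨d, hd, hcov, hcomp⟩ := S0846.exists_covers 𝒜
  haveI := hcomp
  have hL := ZeroCyc99.Twist.isAmple_of_covers hd hcov
  obtain ⟨n, hn⟩ := Ample.GG.eventually_genAt_twist hL F hF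
  have hP := TensorMod.Invertible.isInvertible_tensorPow hL.1 n
  haveI : F.IsQuasicoherent := hF.1
  haveI : SheafOfModules.IsFiniteType (R := (Proj 𝒜).ringCatSheaf) F := hF.2
  haveI := TensorMod.QCohInv.isQCoh_of_isInvertible hP
  haveI : SheafOfModules.IsFiniteType (R := (Proj 𝒜).ringCatSheaf) (CohB1.tensorPow (Twist.twist 𝒜 (d : ℤ)) n) :=
    (Ample.GG.isCoh_of_isInvertible hP).2
  obtain ⟨k, p, hp⟩ := ResDescend36.Ample.exists_epi_freeMod _
    (⟨TensorMod.TensorQCoh.isQCoh_tensorMod _ _, TensorMod.TensorQCoh.isFiniteType_tensorMod _ _⟩ :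
      Coh.IsCoh (CohB1.tensorMod F (CohB1.tensorPow (Twist.twist 𝒜 (d : ℤ)) n))) (hn n le_rfl)
  obtain ⟨e₁⟩ := S0846.tensorPow_twist hcov n
  obtain ⟨e₂⟩ := S0846.tensor_twist hcov (-((n * d : ℕ) : ℤ)) (n : ℤ)
  let Q := Twist.twist 𝒜 (-((n * d : ℕ) : ℤ))
  let e : CohB1.tensorMod Q (CohB1.tensorPow (Twist.twist 𝒜 (d : ℤ)) n) ≅ Coh.structureModule (Proj 𝒜) :=
    tensorIso (Iso.refl Q) e₁ ≪≫ e₂ ≪≫ eqToIso (by push_cast; simp) ≪≫ twistIsoTilde 0 ≪≫ unitIsoTilde.symm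
  let e' : CohB1.tensorMod Q (CohB1.tensorMod F (CohB1.tensorPow (Twist.twist 𝒜 (d : ℤ)) n)) ≅ F :=
    tensorIso (Iso.refl Q) (comm _ _) ≪≫ (assoc Q _ F).symm ≪≫ tensorIso e (Iso.refl F) ≪≫ leftUnit F
  let G := (tensorFunctor (Proj 𝒜)).obj Q
  haveI : PreservesColimitsOfShape (Discrete (Fin k)) G :=
    (preservesSmallestColimits_of_preservesColimits _).preservesColimitsOfShape
  haveI : PreservesColimitsOfShape WalkingSpan G :=
    (preservesSmallestColimits_of_preservesColimits _).preservesColimitsOfShape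
  haveI : G.PreservesEpimorphisms := CategoryTheory.preservesEpimorphisms_of_preservesColimitsOfShape G
  let i : (∐ fun _ : Fin k => Q) ≅ G.obj (∐ fun _ : Fin k => Coh.structureModule (Proj 𝒜)) :=
    Sigma.mapIso (fun _ => (rightUnit Q).symm) ≪≫
      (PreservesCoproduct.iso G (fun _ : Fin k => Coh.structureModule (Proj 𝒜))).symm
  haveI := hp
  haveI : Epi (G.map p) := G.map_epi p
  refine ⟨k, n * d, i.hom ≫ G.map p ≫ e'.hom, ?_⟩
  have h1 : Epi i.hom := inferInstance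
  have h2 : Epi e'.hom := inferInstance
  exact @epi_comp _ _ _ _ _ _ h1 _ (@epi_comp _ _ _ _ _ _ ‹Epi (G.map p)› _ h2)

variable (𝒜 : ℕ → Submodule R A) [GradedAlgebra 𝒜] {k c : ℕ}

theorem shift_single (j : Fin k) :
    ProjTildeExact.Shift 𝒜 (GrQuot.gr 𝒜 k c) (LinearMap.single A (fun _ : Fin k => A) j) (c : ℤ) 0 :=
  fun i _ hx _ _ => Or.inl ⟨i + c, by push_cast; ring, GrQuot.single_mem 𝒜 k c hx j⟩

theorem shift_proj (j : Fin k) :
    ProjTildeExact.Shift (GrQuot.gr 𝒜 k c) 𝒜 (LinearMap.proj j : (Fin k → A) →ₗ[A] A) (-(c : ℤ)) (-(c : ℤ)) :=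
  fun i x hx _ _ => by
    have h : x j ∈ GrQuot.sh 𝒜 c i := (GrQuot.mem_gr 𝒜 k c).1 hx j
    simp only [GrQuot.sh] at h
    by_cases hi : c ≤ i
    · rw [if_pos hi] at h
      exact Or.inl ⟨i - c, by omega, h⟩
    · rw [if_neg hi, Submodule.mem_bot] at h
      exact Or.inr h

/-- The `j`-th inclusion `A(-c)~ → (A(-c)^k)~`. -/
def inc (j : Fin k) : GrTilde.tilde 𝒜 𝒜 (-(c : ℤ)) ⟶ GrTilde.tilde 𝒜 (GrQuot.gr 𝒜 k c) 0 :=
  ProjTildeExact.tildeMap (LinearMap.single A (fun _ : Fin k => A) j) (shift_single 𝒜 j) (neg_add_cancel (c : ℤ)).symm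

/-- The `j`-th projection. -/
def prj (j : Fin k) : GrTilde.tilde 𝒜 (GrQuot.gr 𝒜 k c) 0 ⟶ GrTilde.tilde 𝒜 𝒜 (-(c : ℤ)) :=
  ProjTildeExact.tildeMap (LinearMap.proj j : (Fin k → A) →ₗ[A] A) (shift_proj 𝒜 j) (zero_add (-(c : ℤ))).symm

theorem inc_prj (j : Fin k) : inc 𝒜 (c := c) j ≫ prj 𝒜 j = 𝟙 _ := by
  refine ProjTildeExact.tilde_hom_ext fun U σ x => ?_
  have h : ProjTildeExact.locMap (LinearMap.proj j : (Fin k → A) →ₗ[A] A) x.1
      (ProjTildeExact.locMap (LinearMap.single A (fun _ : Fin k => A) j) x.1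
        (ProjTilde.Frac.val (U := U) σ x)) = ProjTilde.Frac.val (U := U) σ x := by
    refine (ProjTildeExact.locMap_comp_apply _ _ _ _).trans ?_
    generalize ProjTilde.Frac.val (U := U) σ x = z
    induction z using LocalizedModule.induction_on with
    | h a s =>
      refine (ProjTildeExact.locMap_mk _ x.1 a s).trans ?_
      simp
  exact h

theorem inc_prj_ne {j l : Fin k} (hne : j ≠ l) : inc 𝒜 (c := c) j ≫ prj 𝒜 l = 0 := by
  refine ProjTildeExact.tilde_hom_ext fun U σ x => ?_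
  have h : ProjTildeExact.locMap (LinearMap.proj l : (Fin k → A) →ₗ[A] A) x.1
      (ProjTildeExact.locMap (LinearMap.single A (fun _ : Fin k => A) j) x.1
        (ProjTilde.Frac.val (U := U) σ x)) = 0 := by
    refine (ProjTildeExact.locMap_comp_apply _ _ _ _).trans ?_
    have : (LinearMap.proj l : (Fin k → A) →ₗ[A] A) ∘ₗ LinearMap.single A (fun _ : Fin k => A) j = 0 :=
      LinearMap.ext fun a => by simp [Pi.single_eq_of_ne hne.symm]
    rw [this]
    exact ProjTildeExact.locMap_zero_apply x.1 _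
  exact h

theorem exists_graded (F : (Proj 𝒜).Modules) [IsNoetherianRing A] (hF : Coh.IsCoh F) :
    ∃ (M : Type u) (_ : AddCommGroup M) (_ : Module R M) (_ : Module A M) (_ : IsScalarTower R A M)
      (ℳ : ℕ → Submodule R M) (_ : DirectSum.Decomposition ℳ) (_ : SetLike.GradedSMul 𝒜 ℳ),
      Module.Finite A M ∧ Nonempty (GrTilde.tilde 𝒜 ℳ 0 ≅ F) := by
  classical
  obtain ⟨k, c, φ, hφ⟩ := exists_epi_twist 𝒜 F hF
  let s : Fin k → (Twist.twist 𝒜 (-(c : ℤ)) ⟶ F) := fun j => Sigma.ι (fun _ : Fin k => Twist.twist 𝒜 (-(c : ℤ))) j ≫ φ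
  let p : GrTilde.tilde 𝒜 (GrQuot.gr 𝒜 k c) 0 ⟶ F := ∑ l, prj 𝒜 l ≫ (twistIsoTilde _).inv ≫ s l
  have hp : ∀ j, inc 𝒜 j ≫ p = (twistIsoTilde (-(c : ℤ))).inv ≫ s j := fun j => by
    rw [Preadditive.comp_sum, Finset.sum_eq_single j]
    · rw [← Category.assoc, inc_prj, Category.id_comp]
    · intro l _ hl
      rw [← Category.assoc, inc_prj_ne 𝒜 (Ne.symm hl), Limits.zero_comp]
    · simp
  haveI : Epi p := by
    refine @epi_of_epi_fac _ _ _ _ _ (Sigma.desc fun j => (twistIsoTilde (-(c : ℤ))).hom ≫ inc 𝒜 j) p φ hφ ?_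
    refine Sigma.hom_ext _ _ fun j => ?_
    rw [Sigma.ι_desc_assoc, Category.assoc, hp, Iso.hom_inv_id_assoc]
  obtain ⟨D, hD, hcov, hcomp⟩ := S0846.exists_covers 𝒜
  choose b₀ hb₀ using hcov
  obtain ⟨T, hT⟩ := isCompact_univ.elim_finite_subcover
    (fun x : ProjectiveSpectrum 𝒜 => ((Proj.basicOpen 𝒜 (b₀ x : A)) : Set (Proj 𝒜)))
    (fun x => Opens.isOpen _) fun x _ => Set.mem_iUnion.2 ⟨x, hb₀ x⟩
  let b : Fin T.card → 𝒜 D := fun i => b₀ (T.equivFin.symm i).1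
  have hb : ∀ x : ProjectiveSpectrum 𝒜, ∃ l, (b l : A) ∉ x.asHomogeneousIdeal := fun x => by
    obtain ⟨y, hy, hxy⟩ := Set.mem_iUnion₂.1 (hT (Set.mem_univ x))
    refine ⟨T.equivFin ⟨y, hy⟩, ?_⟩
    have h : b (T.equivFin ⟨y, hy⟩) = b₀ y := by simp [b]
    rw [h]; exact hxy
  haveI : F.IsQuasicoherent := hF.1
  let V := Tilde.V p b
  have hV := Tilde.V_homog p b
  letI := GrQuot.quotDecomp 𝒜 V hV
  refine ⟨(Fin k → A) ⧸ Submodule.span A V, inferInstance, inferInstance, inferInstance, inferInstance,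
    GrQuot.quotGr 𝒜 (c := c) V, inferInstance, inferInstance, inferInstance, ?_⟩
  have hg : ProjTildeExact.Shift (GrQuot.gr 𝒜 k c) (GrQuot.quotGr 𝒜 (c := c) V) (Submodule.span A V).mkQ 0 0 :=
    fun i x hx _ _ => Or.inl ⟨i, by simp, x, hx, rfl⟩
  have hgf : (Submodule.span A V).mkQ.comp (Submodule.span A V).subtype = 0 :=
    LinearMap.ext fun x => (Submodule.Quotient.mk_eq_zero _).2 x.2
  have hS := ProjTildeExact.shortExact_tilde (𝒜 := 𝒜) (n := 0) (Submodule.span A V).subtype (Submodule.span A V).mkQ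
    (Tilde.inclShift p b) hg Subtype.val_injective hgf
    (fun i a ha h0 => ⟨⟨a, (Submodule.Quotient.mk_eq_zero _).1 h0⟩, ha, rfl⟩)
    (fun i a ha => by obtain ⟨x, hx, rfl⟩ := ha; exact ⟨x, hx, rfl⟩)
    (fun i a ha u hu e => GrQuot.proj_smul_eq_zero 𝒜 V hV ha hu e)
  have hex := Tilde.exact_incl p b hD hb
  haveI := hS.mono_f
  haveI : Mono (Tilde.incl p b) := hS.mono_f
  have hS' : (ShortComplex.mk (Tilde.incl p b) p (Tilde.incl_comp p b hD hb)).ShortExact := { exact := hex }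
  exact ⟨IsColimit.coconePointUniqueUpToIso hS.gIsCokernel hS'.gIsCokernel⟩

end Groth.Agent.H95.ProjQuot.EssSurj
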