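import Groth.Agent.Lib.Graded.Basic

/-!
# Graded free modules over an `ℕ`-graded algebra and their quotients by homogeneous submodules
-/

noncomputable section

universe u

open DirectSum

namespace Groth.Agent.H95.ProjQuot.GrQuot

open Groth.Agent.Lib.Graded.Basic

variable {R A : Type u} [CommRing R] [CommRing A] [Algebra R A] (𝒜 : ℕ → Submodule R A) [GradedAlgebra 𝒜]
variable (k c : ℕ)

/-- The pieces of `A(-c)`. -/
def sh (i : ℕ) : Submodule R A := if c ≤ i then 𝒜 (i - c) else ⊥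

/-- The component of degree `i` in `A(-c)`. -/
def shProj (i : ℕ) : A →+ A := if c ≤ i then proj 𝒜 (i - c) else 0

/-- The pieces of `A(-c)^k`. -/
def gr (i : ℕ) : Submodule R (Fin k → A) := Submodule.pi Set.univ fun _ => sh 𝒜 c i

theorem mem_gr {i : ℕ} {v : Fin k → A} : v ∈ gr 𝒜 k c i ↔ ∀ b, v b ∈ sh 𝒜 c i := by simp [gr]

/-- The projections of `A(-c)^k`. -/
def π (i : ℕ) : (Fin k → A) →+ (Fin k → A) :=
  AddMonoidHom.pi fun b => (shProj 𝒜 c i).comp (Pi.evalAddMonoidHom (fun _ => A) b)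

theorem π_apply (i : ℕ) (v : Fin k → A) (b : Fin k) : π 𝒜 k c i v b = shProj 𝒜 c i (v b) := rfl

theorem π_mem (i : ℕ) (v : Fin k → A) : π 𝒜 k c i v ∈ gr 𝒜 k c i := by
  refine (mem_gr 𝒜 k c).2 fun b => ?_
  rw [π_apply]
  simp only [sh, shProj]
  split_ifs
  · exact proj_mem 𝒜 _ _
  · exact zero_mem _

theorem π_of_mem {i : ℕ} {v : Fin k → A} (hv : v ∈ gr 𝒜 k c i) : π 𝒜 k c i v = v := by
  funext b
  have h := (mem_gr 𝒜 k c).1 hv b
  rw [π_apply]
  simp only [sh, shProj] at h ⊢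
  split_ifs at h ⊢
  · exact proj_of_mem 𝒜 h
  · rw [(Submodule.mem_bot R).1 h]; rfl

theorem π_of_mem_ne {i j : ℕ} (hne : j ≠ i) {v : Fin k → A} (hv : v ∈ gr 𝒜 k c j) : π 𝒜 k c i v = 0 := by
  funext b
  have h := (mem_gr 𝒜 k c).1 hv b
  rw [π_apply, Pi.zero_apply]
  simp only [sh, shProj] at h ⊢
  by_cases hi : c ≤ i
  · rw [if_pos hi]
    by_cases hj : c ≤ j
    · rw [if_pos hj] at h
      exact proj_of_mem_ne 𝒜 h (by omega)
    · rw [if_neg hj, Submodule.mem_bot] at h
      rw [h, map_zero]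
  · rw [if_neg hi]; rfl

theorem single_mem {e : ℕ} {a : A} (ha : a ∈ 𝒜 e) (b : Fin k) : Pi.single b a ∈ gr 𝒜 k c (e + c) := by
  refine (mem_gr 𝒜 k c).2 fun l => ?_
  rw [sh, if_pos (Nat.le_add_left c e), Nat.add_sub_cancel]
  rcases eq_or_ne l b with rfl | h
  · rwa [Pi.single_eq_same]
  · rw [Pi.single_eq_of_ne h]; exact zero_mem _

theorem mem_range {M : Type u} [AddCommGroup M] [Module R M] {ℳ : ℕ → Submodule R M} (i : ℕ) {x : M}
    (hx : x ∈ ℳ i) : x ∈ (DirectSum.coeAddMonoidHom ℳ).range :=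
  ⟨DirectSum.of (fun i => ℳ i) i ⟨x, hx⟩, DirectSum.coeAddMonoidHom_of ..⟩

/-- `A(-c)^k` is graded. -/
instance decomp : DirectSum.Decomposition (gr 𝒜 k c) :=
  decompositionOfProj _ (π 𝒜 k c) (fun _ _ h => π_of_mem 𝒜 k c h)
    (fun _ _ hne _ h => π_of_mem_ne 𝒜 k c hne h) (fun v => by
      rw [← Finset.univ_sum_single v]
      refine sum_mem fun b _ => ?_
      induction v b using induction_hom 𝒜 with
      | zero => rw [Pi.single_zero]; exact zero_mem _
      | hom e r hr => exact mem_range _ (single_mem 𝒜 k c hr b)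
      | add p q hp hq => rw [Pi.single_add]; exact add_mem hp hq)

instance gsmul : SetLike.GradedSMul 𝒜 (gr 𝒜 k c) where
  smul_mem {i j r v} hr hv := (mem_gr 𝒜 k c).2 fun b => by
    have h := (mem_gr 𝒜 k c).1 hv b
    simp only [sh, vadd_eq_add] at h ⊢
    rw [show (r • v) b = r * v b from rfl]
    by_cases hj : c ≤ j
    · rw [if_pos hj] at h
      rw [if_pos (le_trans hj (Nat.le_add_left j i)), show i + j - c = i + (j - c) by omega]
      exact SetLike.mul_mem_graded hr h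
    · rw [if_neg hj, Submodule.mem_bot] at h
      rw [h, mul_zero]
      exact zero_mem _

/-- The component of `a • v` for homogeneous `v`. -/
theorem π_smul (a : A) {j : ℕ} {v : Fin k → A} (hv : v ∈ gr 𝒜 k c j) (i : ℕ) :
    π 𝒜 k c i (a • v) = (if j ≤ i then proj 𝒜 (i - j) a else 0) • v := by
  induction a using induction_hom 𝒜 with
  | zero => simp
  | hom e r hr =>
    have hm : r • v ∈ gr 𝒜 k c (e + j) := SetLike.GradedSMul.smul_mem hr hv
    rcases eq_or_ne (e + j) i with rfl | hne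
    · rw [π_of_mem 𝒜 k c hm, if_pos (Nat.le_add_left j e), Nat.add_sub_cancel, proj_of_mem 𝒜 hr]
    · rw [π_of_mem_ne 𝒜 k c hne hm]
      split_ifs with h
      · rw [proj_of_mem_ne 𝒜 hr (by omega), zero_smul]
      · rw [zero_smul]
  | add p q hp hq =>
    rw [add_smul, map_add, hp, hq]
    split_ifs <;> simp [add_smul]

theorem π_smul_self (a : A) {j : ℕ} {v : Fin k → A} (hv : v ∈ gr 𝒜 k c j) (e : ℕ) :
    π 𝒜 k c (e + j) (a • v) = proj 𝒜 e a • v := by
  rw [π_smul 𝒜 k c a hv, if_pos (Nat.le_add_left j e), Nat.add_sub_cancel]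

/-! ### Submodules spanned by homogeneous vectors -/

variable {k c} (V : Set (Fin k → A)) (hV : ∀ v ∈ V, ∃ j, v ∈ gr 𝒜 k c j)

include hV in
theorem π_mem_span (i : ℕ) {x : Fin k → A} (hx : x ∈ Submodule.span A V) :
    π 𝒜 k c i x ∈ Submodule.span A V := by
  suffices ∀ a : A, π 𝒜 k c i (a • x) ∈ Submodule.span A V by simpa using this 1
  induction hx using Submodule.span_induction with
  | mem v hv =>
    intro a
    obtain ⟨j, hj⟩ := hV v hv
    rw [π_smul 𝒜 k c a hj]
    exact Submodule.smul_mem _ _ (Submodule.subset_span hv)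
  | zero => intro a; simp
  | add p q _ _ hp hq => intro a; rw [smul_add, map_add]; exact add_mem (hp a) (hq a)
  | smul r x _ hx => intro a; rw [smul_smul]; exact hx _

/-- The pieces of the submodule. -/
def subGr (i : ℕ) : Submodule R (Submodule.span A V) :=
  (gr 𝒜 k c i).comap ((Submodule.span A V).subtype.restrictScalars R)

instance subGSMul : SetLike.GradedSMul 𝒜 (subGr 𝒜 (c := c) V) where
  smul_mem {i j r v} hr hv :=
    (show r • (v : Fin k → A) ∈ gr 𝒜 k c (i +ᵥ j) from SetLike.GradedSMul.smul_mem hr hv)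

include hV in
/-- A submodule spanned by homogeneous vectors is graded. -/
@[instance_reducible]
def subDecomp : DirectSum.Decomposition (subGr 𝒜 (c := c) V) :=
  decompositionOfProj _
    (fun i => AddMonoidHom.mk' (fun x => (⟨π 𝒜 k c i x.1, π_mem_span 𝒜 V hV i x.2⟩ : Submodule.span A V))
      fun x y => Subtype.ext (map_add (π 𝒜 k c i) x.1 y.1))
    (fun _ _ h => Subtype.ext (π_of_mem 𝒜 k c h))
    (fun _ _ hne _ h => Subtype.ext (π_of_mem_ne 𝒜 k c hne h))
    (fun x => by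
      have hx : x = ∑ i ∈ supp (gr 𝒜 k c) x.1,
          (⟨π 𝒜 k c i x.1, π_mem_span 𝒜 V hV i x.2⟩ : Submodule.span A V) := by
        refine Subtype.ext ?_
        rw [AddSubmonoidClass.coe_finsetSum]
        conv_lhs => rw [← sum_proj (gr 𝒜 k c) x.1]
        exact Finset.sum_congr rfl fun i _ => proj_eq_of_isDecomp (gr 𝒜 k c) (π 𝒜 k c)
          (fun _ _ h => π_of_mem 𝒜 k c h) (fun _ _ hne _ h => π_of_mem_ne 𝒜 k c hne h) i x.1
      rw [hx]
      exact sum_mem fun i _ => mem_range i (π_mem 𝒜 k c i x.1))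

/-- The pieces of the quotient. -/
def quotGr (i : ℕ) : Submodule R ((Fin k → A) ⧸ Submodule.span A V) :=
  (gr 𝒜 k c i).map ((Submodule.span A V).mkQ.restrictScalars R)

include hV in
/-- The projections of the quotient. -/
def quotπ (i : ℕ) : ((Fin k → A) ⧸ Submodule.span A V) →+ ((Fin k → A) ⧸ Submodule.span A V) :=
  QuotientAddGroup.lift (Submodule.span A V).toAddSubgroup
    ((Submodule.span A V).mkQ.toAddMonoidHom.comp (π 𝒜 k c i))
    fun x hx => (Submodule.Quotient.mk_eq_zero _).2 (π_mem_span 𝒜 V hV i hx)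

theorem quotπ_mk (i : ℕ) (x : Fin k → A) :
    quotπ 𝒜 V hV i (Submodule.Quotient.mk x) = Submodule.Quotient.mk (π 𝒜 k c i x) := rfl

/-- The quotient is graded. -/
@[instance_reducible]
def quotDecomp : DirectSum.Decomposition (quotGr 𝒜 (c := c) V) :=
  decompositionOfProj _ (quotπ 𝒜 V hV)
    (fun i _ h => by
      obtain ⟨x, hx, rfl⟩ := h
      exact (quotπ_mk 𝒜 V hV i x).trans (congrArg _ (π_of_mem 𝒜 k c hx)))
    (fun i _ hne _ h => by
      obtain ⟨x, hx, rfl⟩ := h
      exact (quotπ_mk 𝒜 V hV i x).trans ((congrArg _ (π_of_mem_ne 𝒜 k c hne hx)).trans (Submodule.Quotient.mk_zero _)))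
    (fun x => by
      obtain ⟨x, rfl⟩ := Submodule.Quotient.mk_surjective _ x
      induction x using induction_hom (gr 𝒜 k c) with
      | zero => rw [Submodule.Quotient.mk_zero]; exact zero_mem _
      | hom i y hy => exact mem_range i ⟨y, hy, rfl⟩
      | add p q hp hq => rw [Submodule.Quotient.mk_add]; exact add_mem hp hq)

instance quotGSMul : SetLike.GradedSMul 𝒜 (quotGr 𝒜 (c := c) V) where
  smul_mem {i j r v} hr hv := by
    obtain ⟨x, hx, rfl⟩ := hv
    exact ⟨r • x, SetLike.GradedSMul.smul_mem hr hx, map_smul (Submodule.span A V).mkQ r x⟩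

include hV in
theorem proj_smul_eq_zero {i : ℕ} {q : (Fin k → A) ⧸ Submodule.span A V} (hq : q ∈ quotGr 𝒜 (c := c) V i)
    {u : A} (hu : u • q = 0) (e : ℕ) : (decompose 𝒜 u e : A) • q = 0 := by
  obtain ⟨x, hx, rfl⟩ := hq
  have h : quotπ 𝒜 V hV (e + i) (Submodule.Quotient.mk (u • x)) = 0 := by
    rw [show (Submodule.Quotient.mk (u • x) : (Fin k → A) ⧸ Submodule.span A V) = 0 from
      (map_smul (Submodule.span A V).mkQ u x).trans hu, map_zero]
  rw [quotπ_mk, π_smul_self 𝒜 k c u hx] at h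
  exact h

end Groth.Agent.H95.ProjQuot.GrQuot
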