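import Groth.Agent.H95.ProjQuot.GrQuot
import Groth.Agent.Lib.ProjTilde.QCoh
import Groth.Agent.Lib.ProjTildeExact.Basic
import Groth.Agent.Lib.ZeroCyc99.Twist
import Groth.Agent.Lib.QCoh.Closure

/-!
# Quasi-coherent quotients of `(A(-c)^k)~` are sheaves of graded modules
-/

noncomputable section

universe u

open CategoryTheory CategoryTheory.Limits AlgebraicGeometry TopologicalSpace Opposite

namespace Groth.Agent.H95.ProjQuot.Tilde

open Groth.Agent.Lib Groth.Agent.Lib.ProjTilde.Frac Groth.Agent.Lib.ProjTilde.Basic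
  Groth.Agent.Lib.ProjTilde.QCoh Groth.Agent.Lib.QCoh.Localizing

variable {R A : Type u} [CommRing R] [CommRing A] [Algebra R A] {𝒜 : ℕ → Submodule R A} [GradedAlgebra 𝒜]
variable {M : Type u} [AddCommGroup M] [Module R M] [Module A M] {ℳ : ℕ → Submodule R M}
variable [SetLike.GradedSMul 𝒜 ℳ] [DirectSum.Decomposition ℳ]

theorem mem_of_deg {j : ℕ} {a : M} (h : Deg ℳ ((j : ℤ) + 0) a) : a ∈ ℳ j := by
  rcases h with ⟨i, hi, hm⟩ | rfl
  · obtain rfl : i = j := by omega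
    exact hm
  · exact zero_mem _

/-- The fraction `v / b^m` on `D₊(b)`. -/
def S {D : ℕ} (b : 𝒜 D) (m : ℕ) (v : M) (hv : v ∈ ℳ (m * D)) :
    Γ(GrTilde.tilde 𝒜 ℳ 0, Proj.basicOpen 𝒜 (b : A)) :=
  fracSec (n := (0 : ℤ)) (ProjectiveSpectrum.basicOpen 𝒜 (b : A)) (s := (b : A) ^ m)
    (SetLike.pow_mem_graded m b.2) (Deg.of_mem hv (Or.inl (by simp)))
    fun y hy hh => hy (y.isPrime.mem_of_pow_mem m hh)

theorem val_S {D : ℕ} (b : 𝒜 D) (m : ℕ) (v : M) (hv : v ∈ ℳ (m * D)) (y : ProjectiveSpectrum.basicOpen 𝒜 (b : A))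
    (hy : (b : A) ^ m ∉ y.1.asHomogeneousIdeal) :
    val (U := ProjectiveSpectrum.basicOpen 𝒜 (b : A)) (S (𝒜 := 𝒜) b m v hv) y =
      LocalizedModule.mk v ⟨(b : A) ^ m, hy⟩ := rfl

theorem S_congr {D : ℕ} (b : 𝒜 D) (m : ℕ) {v v' : M} (hv : v ∈ ℳ (m * D)) (hv' : v' ∈ ℳ (m * D)) (h : v = v') :
    S (𝒜 := 𝒜) b m v hv = S b m v' hv' := by subst h; rfl

theorem S_add {D : ℕ} (b : 𝒜 D) (m : ℕ) {v v' : M} (hv : v ∈ ℳ (m * D)) (hv' : v' ∈ ℳ (m * D)) :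
    S (𝒜 := 𝒜) b m (v + v') (add_mem hv hv') = S b m v hv + S b m v' hv' := by
  refine sect_ext fun y => ?_
  have hy : (b : A) ^ m ∉ y.1.asHomogeneousIdeal := fun hh => y.2 (y.1.isPrime.mem_of_pow_mem m hh)
  refine Eq.trans ?_ (val_add (U := ProjectiveSpectrum.basicOpen 𝒜 (b : A)) _ _ y).symm
  rw [val_S b m _ _ y hy, val_S b m v hv y hy, val_S b m v' hv' y hy, LocalizedModule.mk_add_mk,
    LocalizedModule.mk_eq]
  refine ⟨1, ?_⟩
  simp only [one_smul, Submonoid.smul_def, Submonoid.coe_mul, smul_add, mul_smul]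

theorem S_zero {D : ℕ} (b : 𝒜 D) (m : ℕ) : S (𝒜 := 𝒜) (ℳ := ℳ) b m 0 (zero_mem _) = 0 := by
  refine sect_ext fun y => ?_
  exact (val_S b m _ _ y fun hh => y.2 (y.1.isPrime.mem_of_pow_mem m hh)).trans (LocalizedModule.zero_mk _)

theorem S_smul {D : ℕ} (b : 𝒜 D) (m Q : ℕ) (h : A) (hh : h ∈ 𝒜 (Q • D)) (v : M) (hv : v ∈ ℳ (m * D))
    (hv' : h • v ∈ ℳ ((Q + m) * D)) :
    S (𝒜 := 𝒜) b (Q + m) (h • v) hv' =
      (show Γ(Proj 𝒜, Proj.basicOpen 𝒜 (b : A)) from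
        Proj.awayToSection 𝒜 (b : A) (HomogeneousLocalization.Away.mk 𝒜 b.2 Q h hh)) • S b m v hv := by
  refine sect_ext fun y => ?_
  have hy : ∀ j, (b : A) ^ j ∉ y.1.asHomogeneousIdeal := fun j hh => y.2 (y.1.isPrime.mem_of_pow_mem j hh)
  refine Eq.trans ?_ (val_smul (U := ProjectiveSpectrum.basicOpen 𝒜 (b : A)) _ _ y).symm
  rw [val_S b (Q + m) _ _ y (hy _), val_S b m v hv y (hy _)]
  refine Eq.trans ?_ (congrArg (· • _) (val_awayToSection b.2 Q h hh y (hy Q)).symm)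
  rw [LocalizedModule.mk_smul_mk, LocalizedModule.mk_eq]
  refine ⟨1, ?_⟩
  simp only [one_smul, Submonoid.smul_def, Submonoid.coe_mul, pow_add]

/-- The function `u / e` on an open where `e` does not vanish. -/
theorem val_fracO (W : (Proj 𝒜).Opens) {j : ℕ} {u e : A} (hu : u ∈ 𝒜 j) (he : e ∈ 𝒜 j)
    (hne : ∀ y : W, e ∉ y.1.asHomogeneousIdeal) (y : W) :
    ((show Twist.O (𝒜 := 𝒜) (op W) from ZeroCyc99.Twist.fracO W hu he hne).1 y).val =
      Localization.mk u ⟨e, hne y⟩ := HomogeneousLocalization.val_mk _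

variable {k c : ℕ} {F : (Proj 𝒜).Modules}
variable (q : GrTilde.tilde 𝒜 (GrQuot.gr 𝒜 k c) 0 ⟶ F) {D : ℕ} {ι : Type} (b : ι → 𝒜 D)

/-- The homogeneous vectors whose fractions die in the quotient. -/
def V : Set (Fin k → A) :=
  {v | ∃ (m : ℕ) (hv : v ∈ GrQuot.gr 𝒜 k c (m * D)), ∀ l, q.app _ (S (b l) m v hv) = 0}

theorem V_homog : ∀ v ∈ V q b, ∃ j, v ∈ GrQuot.gr 𝒜 k c j := fun _ ⟨m, hv, _⟩ => ⟨m * D, hv⟩

instance decompSub : DirectSum.Decomposition (GrQuot.subGr 𝒜 (c := c) (V q b)) :=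
  GrQuot.subDecomp 𝒜 _ (V_homog q b)

theorem app_S_zero (hD : 0 < D) (l : ι) (m : ℕ) {x : Fin k → A} (hx : x ∈ Submodule.span A (V q b))
    (hm : x ∈ GrQuot.gr 𝒜 k c (m * D)) : q.app _ (S (b l) m x hm) = 0 := by
  suffices ∀ a : A, q.app _ (S (b l) m _ (GrQuot.π_mem 𝒜 k c (m * D) (a • x))) = 0 by
    rw [S_congr (b l) m hm (GrQuot.π_mem 𝒜 k c (m * D) ((1 : A) • x))
      (by rw [one_smul, GrQuot.π_of_mem 𝒜 k c hm])]
    exact this 1
  clear hm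
  induction hx using Submodule.span_induction with
  | mem v hv =>
    intro a
    obtain ⟨m₀, hv₀, h0⟩ := hv
    by_cases hle : m₀ ≤ m
    · obtain ⟨Q, rfl⟩ : ∃ Q, m = Q + m₀ := ⟨m - m₀, by omega⟩
      let h : A := Lib.Graded.Basic.proj 𝒜 (Q • D) a
      have hh : h ∈ 𝒜 (Q • D) := Lib.Graded.Basic.proj_mem 𝒜 _ _
      have e : GrQuot.π 𝒜 k c ((Q + m₀) * D) (a • v) = h • v := by
        rw [add_mul, GrQuot.π_smul_self 𝒜 k c a hv₀]
        simp [h]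
      rw [S_congr (b l) _ _ (e ▸ GrQuot.π_mem 𝒜 k c _ (a • v)) e, S_smul (b l) m₀ Q h hh v hv₀,
        Scheme.Modules.Hom.app_smul, h0 l, smul_zero]
    · have e : GrQuot.π 𝒜 k c (m * D) (a • v) = 0 := by
        rw [GrQuot.π_smul 𝒜 k c a hv₀, if_neg (fun h => hle (Nat.le_of_mul_le_mul_right h hD)), zero_smul]
      rw [S_congr (b l) m _ (zero_mem _) e, S_zero, map_zero]
  | zero =>
    intro a
    rw [S_congr (b l) m _ (zero_mem _) (by rw [smul_zero, map_zero]), S_zero, map_zero]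
  | add x y _ _ hx hy =>
    intro a
    rw [S_congr (b l) m (GrQuot.π_mem 𝒜 k c _ (a • (x + y))) (add_mem (GrQuot.π_mem 𝒜 k c _ (a • x)) (GrQuot.π_mem 𝒜 k c _ (a • y)))
      (by rw [smul_add, map_add]), S_add (b l) m (GrQuot.π_mem 𝒜 k c _ (a • x)) (GrQuot.π_mem 𝒜 k c _ (a • y)),
      map_add, hx, hy, add_zero]
  | smul r x _ hx =>
    intro a
    rw [S_congr (b l) m _ (GrQuot.π_mem 𝒜 k c _ ((a * r) • x)) (by rw [smul_smul])]
    exact hx _

/-- The inclusion of the killed vectors. -/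
abbrev inclShift : ProjTildeExact.Shift (GrQuot.subGr 𝒜 (c := c) (V q b)) (GrQuot.gr 𝒜 k c)
    (Submodule.span A (V q b)).subtype 0 0 := fun i _ hx _ _ => Or.inl ⟨i, by simp, hx⟩

/-- The map `N~ → (A(-c)^k)~`. -/
abbrev incl : GrTilde.tilde 𝒜 (GrQuot.subGr 𝒜 (c := c) (V q b)) 0 ⟶ GrTilde.tilde 𝒜 (GrQuot.gr 𝒜 k c) 0 :=
  ProjTildeExact.tildeMap (Submodule.span A (V q b)).subtype (inclShift q b) (add_zero (0 : ℤ)).symm

theorem incl_comp (hD : 0 < D) (hb : ∀ x : ProjectiveSpectrum 𝒜, ∃ l, (b l : A) ∉ x.asHomogeneousIdeal) :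
    incl q b ≫ q = 0 := by
  refine SheafOfModules.Hom.ext (PresheafOfModules.hom_ext fun U => ?_)
  ext σ
  change q.app U.unop ((incl q b).app U.unop σ) = 0
  refine TopCat.Presheaf.section_ext (⟨F.presheaf, F.isSheaf⟩ : TopCat.Sheaf AddCommGrpCat.{u} _) U.unop _ _
    fun x hx => ?_
  obtain ⟨j, t, a, ht, ha, htx, hval⟩ :=
    exists_local_rep (show GrTilde.sect 𝒜 (GrQuot.subGr 𝒜 (c := c) (V q b)) 0 (op U.unop) from σ) ⟨x, hx⟩
  obtain ⟨l, hl⟩ := hb x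
  have ha' : (a : Fin k → A) ∈ GrQuot.gr 𝒜 k c j := mem_of_deg (ℳ := GrQuot.subGr 𝒜 (c := c) (V q b)) ha
  have hp : t ^ (D - 1) • (a : Fin k → A) ∈ GrQuot.gr 𝒜 k c (j * D) := by
    have h : t ^ (D - 1) • (a : Fin k → A) ∈ GrQuot.gr 𝒜 k c ((D - 1) • j +ᵥ j) :=
      SetLike.GradedSMul.smul_mem (SetLike.pow_mem_graded (D - 1) ht) ha'
    rw [vadd_eq_add, smul_eq_mul, Nat.sub_mul, one_mul, Nat.sub_add_cancel (Nat.le_mul_of_pos_left j hD),
      mul_comm] at h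
    exact h
  let W : (Proj 𝒜).Opens := U.unop ⊓ Proj.basicOpen 𝒜 ((b l : A) * t)
  have hxW : x ∈ W := ⟨hx, fun h => (x.isPrime.mem_or_mem h).elim hl htx⟩
  have hWb : W ≤ Proj.basicOpen 𝒜 (b l : A) := fun y hy h => hy.2 (Ideal.mul_mem_right t _ h)
  have hne : ∀ y : W, t ^ D ∉ y.1.asHomogeneousIdeal := fun y h =>
    y.2.2 (Ideal.mul_mem_left _ _ (y.1.isPrime.mem_of_pow_mem D h))
  have hu : (b l : A) ^ j ∈ 𝒜 (j * D) := SetLike.pow_mem_graded j (b l).2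
  have he : t ^ D ∈ 𝒜 (j * D) := by rw [mul_comm]; exact SetLike.pow_mem_graded D ht
  let G : Γ(Proj 𝒜, W) := ZeroCyc99.Twist.fracO W hu he hne
  have heq : res (GrTilde.tilde 𝒜 (GrQuot.gr 𝒜 k c) 0) (inf_le_left : W ≤ U.unop) ((incl q b).app U.unop σ) =
      G • res (GrTilde.tilde 𝒜 (GrQuot.gr 𝒜 k c) 0) hWb (S (b l) j _ hp) := by
    refine sect_ext fun y => ?_
    have hty : t ∉ y.1.asHomogeneousIdeal := fun h => y.2.2 (Ideal.mul_mem_left _ _ h)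
    have hby : (b l : A) ^ j ∉ y.1.asHomogeneousIdeal := fun h => hWb y.2 (y.1.isPrime.mem_of_pow_mem j h)
    refine Eq.trans ?_ (val_smul (U := W) G _ y).symm
    change ProjTildeExact.locMap (Submodule.span A (V q b)).subtype y.1
      (val (U := U.unop) σ ⟨y.1, y.2.1⟩) = _
    refine (congrArg (ProjTildeExact.locMap (Submodule.span A (V q b)).subtype y.1) (hval ⟨y.1, y.2.1⟩ hty)).trans
      ((ProjTildeExact.locMap_mk _ _ _ _).trans ?_)
    refine Eq.trans ?_ (congrArg₂ (· • ·) (val_fracO W hu he hne y).symm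
      (val_S (b l) j _ hp ⟨y.1, hWb y.2⟩ hby).symm)
    rw [LocalizedModule.mk_smul_mk, LocalizedModule.mk_eq]
    refine ⟨1, ?_⟩
    simp only [one_smul, Submonoid.smul_def, Submonoid.coe_mul, Submodule.subtype_apply, smul_smul]
    congr 1
    obtain ⟨D', rfl⟩ : ∃ D', D = D' + 1 := ⟨D - 1, by omega⟩
    rw [Nat.add_sub_cancel, pow_succ]
    ring
  have hz : q.app _ (S (b l) j _ hp) = 0 :=
    app_S_zero q b hD l j (Submodule.smul_mem _ _ a.2) hp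
  refine (TopCat.Presheaf.germ_res_apply F.presheaf (homOfLE (inf_le_left : W ≤ U.unop)) x hxW _).symm.trans ?_
  refine Eq.trans ?_ (TopCat.Presheaf.germ_res_apply F.presheaf (homOfLE (inf_le_left : W ≤ U.unop)) x hxW 0)
  refine congrArg (F.presheaf.germ W x hxW) ?_
  change res F inf_le_left (q.app U.unop _) = res F inf_le_left 0
  rw [res_app, heq, Scheme.Modules.Hom.app_smul, ← res_app, hz, map_zero, smul_zero, map_zero]

theorem exact_incl [Finite ι] [F.IsQuasicoherent] (hD : 0 < D)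
    (hb : ∀ x : ProjectiveSpectrum 𝒜, ∃ l, (b l : A) ∉ x.asHomogeneousIdeal) :
    (ShortComplex.mk (incl q b) q (incl_comp q b hD hb)).Exact := by
  classical
  cases nonempty_fintype ι
  refine (Modules.Stalk.exact_iff_stalk _).2 fun x => ?_
  rw [ShortComplex.ab_exact_iff]
  intro z hz
  obtain ⟨U, hxU, σ, rfl⟩ := TopCat.Presheaf.exists_germ_eq (GrTilde.tilde 𝒜 (GrQuot.gr 𝒜 k c) 0).presheaf z
  have hz' : F.presheaf.germ U x hxU (q.app U σ) = F.presheaf.germ U x hxU 0 :=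
    ((TopCat.Presheaf.stalkFunctor_map_germ_apply U x hxU q.mapPresheaf σ).symm.trans hz).trans (map_zero _).symm
  obtain ⟨W₀, hxW₀, i₁, i₂, heq⟩ := TopCat.Presheaf.germ_eq _ x hxU hxU _ _ hz'
  rw [map_zero] at heq
  let σ₀ := res (GrTilde.tilde 𝒜 (GrQuot.gr 𝒜 k c) 0) i₁.le σ
  have hσ₀ : q.app W₀ σ₀ = 0 := (res_app q i₁.le σ).symm.trans heq
  obtain ⟨j, t, a, ht, ha, htx, hval⟩ :=
    exists_local_rep (show GrTilde.sect 𝒜 (GrQuot.gr 𝒜 k c) 0 (op W₀) from σ₀) ⟨x, hxW₀⟩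
  have ha' : a ∈ GrQuot.gr 𝒜 k c j := mem_of_deg ha
  obtain ⟨l₀, hl₀⟩ := hb x
  obtain ⟨e₀, g₀, hg₀, hxg₀, hgW₀⟩ :=
    exists_homog_basicOpen_le (W₀ ⊓ Proj.basicOpen 𝒜 t) x ⟨hxW₀, htx⟩
  let g : A := g₀ ^ D * (b l₀ : A)
  have hg : g ∈ 𝒜 ((e₀ + 1) • D) := by
    have h := SetLike.mul_mem_graded (SetLike.pow_mem_graded D hg₀) (b l₀).2
    simp only [smul_eq_mul] at h ⊢
    rwa [show (e₀ + 1) * D = D * e₀ + D by ring]
  have hxg : g ∉ x.asHomogeneousIdeal := fun h =>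
    (x.isPrime.mem_or_mem h).elim (fun h => hxg₀ (x.isPrime.mem_of_pow_mem D h)) hl₀
  have hgW : ∀ y : ProjectiveSpectrum 𝒜, g ∉ y.asHomogeneousIdeal → y ∈ W₀ ∧ t ∉ y.asHomogeneousIdeal :=
    fun y hy => hgW₀ (x := y) fun h => hy (Ideal.mul_mem_right _ _ (Ideal.pow_mem_of_mem _ h D hD))
  have hw : t ^ (D - 1) • a ∈ GrQuot.gr 𝒜 k c (j * D) := by
    have h : t ^ (D - 1) • a ∈ GrQuot.gr 𝒜 k c ((D - 1) • j +ᵥ j) :=
      SetLike.GradedSMul.smul_mem (SetLike.pow_mem_graded (D - 1) ht) ha'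
    rw [vadd_eq_add, smul_eq_mul, Nat.sub_mul, one_mul, Nat.sub_add_cancel (Nat.le_mul_of_pos_left j hD),
      mul_comm] at h
    exact h
  have hkill : ∀ l, ∃ N : ℕ,
      (show Γ(Proj 𝒜, Proj.basicOpen 𝒜 (b l : A)) from Proj.awayToSection 𝒜 (b l : A)
        (HomogeneousLocalization.Away.mk 𝒜 (b l).2 (e₀ + 1) g hg)) ^ N •
      q.app _ (S (b l) j _ hw) = 0 := by
    intro l
    refine (localizes_of_isAffineOpen (M := F) (Proj.isAffineOpen_basicOpen 𝒜 (b l : A) (b l).2 hD) _).sep _ ?_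
    obtain ⟨H, hH⟩ : ∃ H, H = (Proj 𝒜).basicOpen (show Γ(Proj 𝒜, Proj.basicOpen 𝒜 (b l : A)) from
      Proj.awayToSection 𝒜 (b l : A) (HomogeneousLocalization.Away.mk 𝒜 (b l).2 (e₀ + 1) g hg)) := ⟨_, rfl⟩
    have hH' : H = Proj.basicOpen 𝒜 ((b l : A) * g) := hH.trans (basicOpen_awayToSection (b l).2 (e₀ + 1) g hg)
    have hHb : H ≤ Proj.basicOpen 𝒜 (b l : A) := hH ▸ (Proj 𝒜).basicOpen_le _
    have hmem : ∀ y, y ∈ H → (b l : A) ∉ y.asHomogeneousIdeal ∧ g ∉ y.asHomogeneousIdeal := fun y hy => by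
      rw [hH'] at hy
      exact ⟨fun h => hy (Ideal.mul_mem_right _ _ h), fun h => hy (Ideal.mul_mem_left _ _ h)⟩
    have hHW : H ≤ W₀ := fun y hy => (hgW y (hmem y hy).2).1
    suffices res F hHb (q.app _ (S (b l) j _ hw)) = 0 by subst hH; exact this
    have hne : ∀ y : H, (b l : A) ^ j ∉ y.1.asHomogeneousIdeal := fun y h =>
      (hmem y.1 y.2).1 (y.1.isPrime.mem_of_pow_mem j h)
    have hu : t ^ D ∈ 𝒜 (j * D) := by rw [mul_comm]; exact SetLike.pow_mem_graded D ht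
    have hb' : (b l : A) ^ j ∈ 𝒜 (j * D) := SetLike.pow_mem_graded j (b l).2
    have heq' : res (GrTilde.tilde 𝒜 (GrQuot.gr 𝒜 k c) 0) hHb (S (b l) j _ hw) =
        ZeroCyc99.Twist.fracO H hu hb' hne • res (GrTilde.tilde 𝒜 (GrQuot.gr 𝒜 k c) 0) hHW σ₀ := by
      refine sect_ext fun y => ?_
      have hty := (hgW y.1 (hmem y.1 y.2).2).2
      refine Eq.trans ?_ (val_smul (U := H) _ _ y).symm
      refine (val_S (b l) j _ hw ⟨y.1, hHb y.2⟩ (hne y)).trans ?_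
      refine Eq.trans ?_ (congrArg₂ (· • ·) (val_fracO H hu hb' hne y).symm
        (hval ⟨y.1, hHW y.2⟩ hty).symm)
      rw [LocalizedModule.mk_smul_mk, LocalizedModule.mk_eq]
      refine ⟨1, ?_⟩
      simp only [one_smul, Submonoid.smul_def, Submonoid.coe_mul, smul_smul]
      congr 1
      obtain ⟨D', rfl⟩ : ∃ D', D = D' + 1 := ⟨D - 1, by omega⟩
      rw [Nat.add_sub_cancel, pow_succ]
      ring
    rw [res_app, heq', Scheme.Modules.Hom.app_smul, ← res_app, hσ₀, map_zero, smul_zero]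
  choose N hN using hkill
  let N' : ℕ := Finset.univ.sup N
  have hh : g ^ N' ∈ 𝒜 ((N' * (e₀ + 1)) • D) := by
    have h := SetLike.pow_mem_graded N' hg
    simp only [smul_eq_mul] at h ⊢
    rwa [mul_assoc]
  have hv : g ^ N' • (t ^ (D - 1) • a) ∈ GrQuot.gr 𝒜 k c ((N' * (e₀ + 1) + j) * D) := by
    rw [add_mul, ← smul_eq_mul (α := ℕ) (N' * (e₀ + 1))]
    exact SetLike.GradedSMul.smul_mem hh hw
  have hvV : g ^ N' • (t ^ (D - 1) • a) ∈ V q b := by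
    refine ⟨_, hv, fun l => ?_⟩
    rw [S_smul (b l) j (N' * (e₀ + 1)) _ hh _ hw hv, Scheme.Modules.Hom.app_smul]
    obtain ⟨d, hd⟩ := Nat.exists_eq_add_of_le (Finset.le_sup (f := N) (Finset.mem_univ l))
    have hpow : HomogeneousLocalization.Away.mk 𝒜 (b l).2 (N' * (e₀ + 1)) (g ^ N') hh =
        HomogeneousLocalization.Away.mk 𝒜 (b l).2 (e₀ + 1) g hg ^ N' := by
      refine HomogeneousLocalization.val_injective _ ?_
      rw [HomogeneousLocalization.val_pow, HomogeneousLocalization.Away.val_mk,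
        HomogeneousLocalization.Away.val_mk, Localization.mk_pow]
      congr 1
      exact Subtype.ext (by simp [← pow_mul, mul_comm])
    rw [hpow, map_pow, show N' = d + N l by omega]
    refine (congrArg (· • _) (pow_add _ d (N l))).trans ((mul_smul _ _ _).trans ?_)
    exact (congrArg (_ • ·) (hN l)).trans (smul_zero _)
  have hs : g ^ N' * t ^ D ∈ 𝒜 ((N' * (e₀ + 1) + j) * D) := by
    have h := SetLike.mul_mem_graded hh (SetLike.pow_mem_graded D ht)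
    simp only [smul_eq_mul] at h
    rwa [show (N' * (e₀ + 1) + j) * D = N' * (e₀ + 1) * D + D * j by ring]
  have hWs : Proj.basicOpen 𝒜 g ≤ Proj.basicOpen 𝒜 (g ^ N' * t ^ D) := fun y hy h =>
    (y.isPrime.mem_or_mem h).elim (fun h => hy (y.isPrime.mem_of_pow_mem _ h))
      fun h => (hgW y hy).2 (y.isPrime.mem_of_pow_mem D h)
  let τ : Γ(GrTilde.tilde 𝒜 (GrQuot.subGr 𝒜 (c := c) (V q b)) 0, Proj.basicOpen 𝒜 g) :=
    fracSec (n := (0 : ℤ)) (ProjectiveSpectrum.basicOpen 𝒜 g)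
      (a := (⟨_, Submodule.subset_span hvV⟩ : Submodule.span A (V q b))) hs
      (Deg.of_mem (ℳ := GrQuot.subGr 𝒜 (c := c) (V q b)) hv (Or.inl (by simp))) hWs
  have hgU : Proj.basicOpen 𝒜 g ≤ U := fun y hy => i₁.le (hgW y hy).1
  have hτ : (incl q b).app (Proj.basicOpen 𝒜 g) τ = res (GrTilde.tilde 𝒜 (GrQuot.gr 𝒜 k c) 0) hgU σ := by
    refine sect_ext fun y => ?_
    change ProjTildeExact.locMap (Submodule.span A (V q b)).subtype y.1
      (val (U := ProjectiveSpectrum.basicOpen 𝒜 g) τ y) = _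
    refine (congrArg (ProjTildeExact.locMap (Submodule.span A (V q b)).subtype y.1)
      (val_fracSec (ProjectiveSpectrum.basicOpen 𝒜 g) hs _ hWs y)).trans ((ProjTildeExact.locMap_mk _ _ _ _).trans ?_)
    refine Eq.trans ?_ (hval ⟨y.1, (hgW y.1 y.2).1⟩ (hgW y.1 y.2).2).symm
    rw [LocalizedModule.mk_eq]
    refine ⟨1, ?_⟩
    simp only [one_smul, Submonoid.smul_def, Submodule.subtype_apply, smul_smul]
    congr 1
    obtain ⟨D', rfl⟩ : ∃ D', D = D' + 1 := ⟨D - 1, by omega⟩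
    rw [Nat.add_sub_cancel, pow_succ]
    ring
  refine ⟨(GrTilde.tilde 𝒜 (GrQuot.subGr 𝒜 (c := c) (V q b)) 0).presheaf.germ (Proj.basicOpen 𝒜 g) x hxg τ, ?_⟩
  refine (TopCat.Presheaf.stalkFunctor_map_germ_apply _ x hxg (incl q b).mapPresheaf τ).trans ?_
  exact (congrArg ((GrTilde.tilde 𝒜 (GrQuot.gr 𝒜 k c) 0).presheaf.germ (Proj.basicOpen 𝒜 g) x hxg) hτ).trans
    (TopCat.Presheaf.germ_res_apply _ (homOfLE hgU) x hxg σ)

end Groth.Agent.H95.ProjQuot.Tilde
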